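import Mathlib
/-!
The valuation-theoretic core of "a monomorphism of a torus into a separated group is proper".
-/

set_option autoImplicit false
set_option linter.style.haveILetI false

universe u v

namespace Groth.Agent.MultClosed

open IsLocalRing
open scoped IntermediateField.algebraAdjoinAdjoin

variable {R : Type u} [CommRing R] [IsDomain R] [ValuationRing R] {K : Type u} [Field K] [Algebra R K]
  [IsFractionRing R K]

/-- A finite family of elements can be scaled to be integral with one of them equal to `1`. -/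
theorem exists_scale (s : Finset K) (h : ∃ x ∈ s, x ≠ 0) :
    ∃ b : K, (∀ x ∈ s, ∃ a : R, algebraMap R K a = b * x) ∧ ∃ x ∈ s, b * x = 1 := by
  obtain ⟨y, hy, hy0⟩ := h
  obtain ⟨x, hx, hmax⟩ := Finset.exists_max_image s (fun x => ValuationRing.valuation R K x) ⟨y, hy⟩
  have hx0 : x ≠ 0 := fun h0 => hy0 ((ValuationRing.valuation R K).zero_iff.1 (le_antisymm
    ((hmax y hy).trans (by rw [h0, map_zero])) zero_le))
  refine ⟨x⁻¹, fun z hz => (ValuationRing.mem_integer_iff R K _).1 ?_, x, hx, inv_mul_cancel₀ hx0⟩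
  show ValuationRing.valuation R K (x⁻¹ * z) ≤ 1
  rw [map_mul, map_inv₀]
  calc (ValuationRing.valuation R K x)⁻¹ * ValuationRing.valuation R K z
      ≤ (ValuationRing.valuation R K x)⁻¹ * ValuationRing.valuation R K x := mul_le_mul_right (hmax z hz) _
    _ = 1 := inv_mul_cancel₀ ((ValuationRing.valuation R K).ne_zero_iff.2 hx0)

variable (R)

/-- Polynomials with coefficients in the fraction field can be scaled to integral ones, one not reducing to zero. -/
theorem exists_integral_scale {σ ι : Type*} (J : Finset ι) (P : ι → MvPolynomial σ K) (hP : ∃ j ∈ J, P j ≠ 0) :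
    ∃ (b : K) (Q : ι → MvPolynomial σ R), (∀ j ∈ J, (Q j).map (algebraMap R K) = MvPolynomial.C b * P j) ∧
      ∃ j ∈ J, ∃ d, (Q j).coeff d = 1 := by
  classical
  let s : Finset K := J.biUnion fun j => (P j).support.image fun d => (P j).coeff d
  obtain ⟨b, hb, x, hx, hbx⟩ := exists_scale (R := R) s (by
    obtain ⟨j, hj, hne⟩ := hP
    obtain ⟨d, hd⟩ := MvPolynomial.support_nonempty.2 hne
    exact ⟨_, Finset.mem_biUnion.2 ⟨j, hj, Finset.mem_image_of_mem _ hd⟩, MvPolynomial.mem_support_iff.1 hd⟩)
  let a : K → R := fun y => if h : ∃ r : R, algebraMap R K r = b * y then h.choose else 0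
  have ha : ∀ y ∈ s, algebraMap R K (a y) = b * y := fun y hy => by
    simp only [a, dif_pos (hb y hy)]
    exact (hb y hy).choose_spec
  let Q : ι → MvPolynomial σ R := fun j =>
    ∑ d ∈ (P j).support, MvPolynomial.monomial d (a ((P j).coeff d))
  refine ⟨b, Q, fun j hj => ?_, ?_⟩
  · conv_rhs => rw [(P j).as_sum, Finset.mul_sum]
    simp only [Q, map_sum]
    refine Finset.sum_congr rfl fun d hd => ?_
    rw [MvPolynomial.map_monomial, MvPolynomial.C_mul_monomial,
      ha _ (Finset.mem_biUnion.2 ⟨j, hj, Finset.mem_image_of_mem _ hd⟩)]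
  · obtain ⟨j, hj, hx'⟩ := Finset.mem_biUnion.1 hx
    obtain ⟨d, hd, rfl⟩ := Finset.mem_image.1 hx'
    refine ⟨j, hj, d, IsFractionRing.injective R K ?_⟩
    simp only [Q, MvPolynomial.coeff_sum, MvPolynomial.coeff_monomial, Finset.sum_ite_eq', hd, if_true]
    rw [ha _ hx, hbx, map_one]

variable {L : Type*} [Field L] [Algebra K L] [Algebra R L] [IsScalarTower R K L] {Λ : Type*} [CommRing Λ] [IsDomain Λ]
  {O : Type*} [CommRing O] [Algebra R O] {R}

/-- The key lemma: no element can be shifted by infinitely many powers of a non-unit over a fixed algebraic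
extension whose generators stay independent modulo the maximal ideal. -/
theorem false_of_shift (inc : O →ₐ[R] L) (ρ : O →+* Λ) (hinc : Function.Injective inc)
    (hρ : ∀ x ∈ maximalIdeal R, ρ (algebraMap R O x) = 0) {r : ℕ} (a : Fin r → L) (ha : AlgebraicIndependent K a) (so : O) (hs : ρ so ≠ 0)
    (c : R) (hc : c ∈ maximalIdeal R) (hc0 : c ≠ 0)
    (halg : IsAlgebraic (IntermediateField.adjoin K (Set.range a)) (inc so))
    (M : Set ℕ) (hM : M.Infinite) (τ : ℕ → L →ₐ[K] L) (o : ℕ → Fin r → O)
    (hτa : ∀ m ∈ M, ∀ i, τ m (a i) = inc (o m i))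
    (hτs : ∀ m ∈ M, τ m (inc so) = algebraMap R L (c ^ m) * inc so)
    (hind : ∀ m ∈ M, ∀ P : MvPolynomial (Fin r) R,
      MvPolynomial.eval₂ (ρ.comp (algebraMap R O)) (fun i => ρ (o m i)) P = 0 → ∀ d, P.coeff d ∈ maximalIdeal R) :
    False := by
  classical
  let F := IntermediateField.adjoin K (Set.range a)
  let E := IntermediateField.adjoin F ({inc so} : Set L)
  haveI : FiniteDimensional F E := IntermediateField.adjoin.finiteDimensional halg.isIntegral
  obtain ⟨J, hJM, hJc⟩ := hM.exists_subset_card_eq (Module.finrank F E + 1)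
  let N := J.sup id
  let v : J → E := fun j =>
    ⟨algebraMap R L (c ^ (j.1 * j.1)) * inc so ^ (2 * (N - j.1)), mul_mem (by
        rw [IsScalarTower.algebraMap_apply R K L]
        exact E.algebraMap_mem (⟨_, IntermediateField.algebraMap_mem _ _⟩ : F))
        (pow_mem (IntermediateField.mem_adjoin_simple_self F _) _)⟩
  have hdep : ¬ LinearIndependent F v := fun h => by
    have := h.fintype_card_le_finrank
    rw [Fintype.card_coe, hJc] at this
    omega
  let A₀ := Algebra.adjoin K (Set.range a)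
  let w : J → L := fun j => algebraMap R L (c ^ (j.1 * j.1)) * inc so ^ (2 * (N - j.1))
  have hw : ¬ LinearIndependent F w := fun h => hdep (LinearIndependent.of_comp E.val.toLinearMap h)
  rw [← LinearIndependent.iff_fractionRing (R := Algebra.adjoin K (Set.range a))
    (K := IntermediateField.adjoin K (Set.range a)), Fintype.linearIndependent_iff] at hw
  push Not at hw
  obtain ⟨f, hf0, j₀, hj₀⟩ := hw
  have hf : ∀ j, ∃ P : MvPolynomial (Fin r) K, MvPolynomial.aeval a P = (f j : L) := fun j => by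
    exact (AlgHom.mem_range _).1 ((Algebra.adjoin_range_eq_range_aeval K a).le (f j).2)
  choose P hP using hf
  let P' : ℕ → MvPolynomial (Fin r) K := fun j => if h : j ∈ J then P ⟨j, h⟩ else 0
  obtain ⟨b, Q, hQ, m, hm, d, hd⟩ := exists_integral_scale R J P' ⟨j₀.1, j₀.2, fun h => hj₀ (Subtype.ext (by
    rw [← hP j₀, show P j₀ = 0 by simpa [P'] using h, map_zero]
    rfl))⟩
  -- the relation with integral coefficients
  have hrel : ∑ j ∈ J, MvPolynomial.aeval a (Q j) * (algebraMap R L (c ^ (j * j)) * inc so ^ (2 * (N - j))) = 0 := by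
    have h1 : ∀ j ∈ J, MvPolynomial.aeval a (Q j) = algebraMap K L b * MvPolynomial.aeval a (P' j) := fun j hj => by
      rw [← MvPolynomial.aeval_map_algebraMap K, hQ j hj, map_mul, MvPolynomial.aeval_C]
    rw [Finset.sum_congr rfl fun j hj => by rw [h1 j hj, mul_assoc], ← Finset.mul_sum, ← Finset.sum_coe_sort]
    have h2 : ∀ j : J, MvPolynomial.aeval a (P' j.1) = (f j : L) := fun j => by
      rw [show P' j.1 = P j by simp [P'], hP]
    simp only [h2]
    have h3 : ∑ j : J, (f j : L) * w j = 0 := hf0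
    rw [h3, mul_zero]
  have hmM := hJM hm
  let e : O := ∑ j ∈ J, MvPolynomial.aeval (o m) (Q j) *
    (algebraMap R O (c ^ (((j : ℤ) - m) * ((j : ℤ) - m)).toNat) * so ^ (2 * (N - j)))
  have he : inc e = 0 := by
    have hτ := congrArg (τ m) hrel
    rw [map_zero, map_sum] at hτ
    have hcL : algebraMap R L (c ^ (2 * N * m)) ≠ 0 := by
      rw [IsScalarTower.algebraMap_apply R K L]
      exact (map_ne_zero_iff _ (algebraMap K L).injective).2
        ((map_ne_zero_iff _ (IsFractionRing.injective R K)).2 (pow_ne_zero _ hc0))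
    refine (mul_eq_zero.1 (?_ : algebraMap R L (c ^ (2 * N * m)) * inc e = 0)).resolve_left hcL
    suffices key : ∀ j ∈ J, algebraMap R L (c ^ (2 * N * m)) * inc (MvPolynomial.aeval (o m) (Q j) *
          (algebraMap R O (c ^ (((j : ℤ) - m) * ((j : ℤ) - m)).toNat) * so ^ (2 * (N - j)))) =
        algebraMap R L (c ^ (m * m)) * τ m (MvPolynomial.aeval a (Q j) *
          (algebraMap R L (c ^ (j * j)) * inc so ^ (2 * (N - j)))) by
      rw [map_sum, Finset.mul_sum, Finset.sum_congr rfl key, ← Finset.mul_sum, hτ, mul_zero]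
    intro j hj
    have hQτ : τ m (MvPolynomial.aeval a (Q j)) = inc (MvPolynomial.aeval (o m) (Q j)) := by
      rw [← AlgHom.restrictScalars_apply R (τ m), ← AlgHom.comp_apply, MvPolynomial.comp_aeval, ← AlgHom.comp_apply inc,
        MvPolynomial.comp_aeval]
      congr 2
      funext i
      exact hτa m hmM i
    have hcτ : τ m (algebraMap R L (c ^ (j * j))) = algebraMap R L (c ^ (j * j)) := by
      rw [IsScalarTower.algebraMap_apply R K L, AlgHom.commutes]
    have hjN : j ≤ N := Finset.le_sup (f := id) hj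
    have hexp : m * m + j * j + m * (2 * (N - j)) = 2 * N * m + (((j : ℤ) - m) * ((j : ℤ) - m)).toNat := by
      zify [hjN]
      rw [Int.toNat_of_nonneg (mul_self_nonneg _)]
      ring
    rw [map_mul (τ m), map_mul (τ m), hQτ, hcτ, map_pow (τ m), hτs m hmM, map_mul inc, map_mul inc, AlgHom.commutes]
    have e2 : (algebraMap R L (c ^ m) * inc so) ^ (2 * (N - j)) =
        algebraMap R L (c ^ (m * (2 * (N - j)))) * inc (so ^ (2 * (N - j))) := by
      rw [mul_pow, ← map_pow, ← pow_mul, map_pow inc]
    rw [e2]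
    calc _ = inc (MvPolynomial.aeval (o m) (Q j)) * (algebraMap R L (c ^ (2 * N * m + (((j : ℤ) - m) * ((j : ℤ) - m)).toNat)) *
          inc (so ^ (2 * (N - j)))) := by rw [pow_add, map_mul]; ring
      _ = _ := by rw [← hexp, pow_add, pow_add, map_mul, map_mul]; ring
  have hρe : ρ e = 0 := by
    rw [hinc (he.trans (map_zero inc).symm), map_zero]
  rw [map_sum, Finset.sum_eq_single m (fun j _ hj => ?_) fun h => absurd hm h] at hρe
  · rw [sub_self, zero_mul, Int.toNat_zero, pow_zero, map_one, one_mul, map_mul, map_pow] at hρe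
    have h0 : ρ (MvPolynomial.aeval (o m) (Q m)) = 0 := (mul_eq_zero.1 hρe).resolve_right (pow_ne_zero _ hs)
    rw [MvPolynomial.aeval_def, ← RingHom.coe_coe, MvPolynomial.eval₂_comp_left] at h0
    exact (Ideal.ne_top_iff_one _).1 (IsLocalRing.maximalIdeal.isMaximal R).ne_top (hd ▸ hind m hmM (Q m) h0 d)
  · have hpos : (((j : ℤ) - m) * ((j : ℤ) - m)).toNat ≠ 0 := by
      have : (0 : ℤ) < ((j : ℤ) - m) * ((j : ℤ) - m) := mul_self_pos.2 (sub_ne_zero.2 (Int.ofNat_injective.ne hj))
      omega
    rw [map_mul, map_mul, hρ _ (Ideal.pow_mem_of_mem _ hc _ (Nat.pos_of_ne_zero hpos)), zero_mul, mul_zero]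

end Groth.Agent.MultClosed
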