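import Mathlib
/-!
The function field of a split torus.
-/

set_option autoImplicit false
set_option linter.style.haveILetI false

universe u

noncomputable section

namespace Groth.Agent.MultClosed

/-- The characters of the standard torus. -/
abbrev Chars (r : ℕ) := Multiplicative (Fin r → ℤ)

/-- The function field of the standard torus. -/
abbrev FunF (F : Type u) [Field F] (r : ℕ) := FractionRing (MonoidAlgebra F (Chars r))

variable (F : Type u) [Field F] (r : ℕ)

instance : IsDomain (MonoidAlgebra F (Chars r)) := inferInstance

/-- The monomial of a character in the function field. -/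
def mon : Chars r →* FunF F r :=
  (algebraMap (MonoidAlgebra F (Chars r)) (FunF F r)).toMonoidHom.comp (MonoidAlgebra.of F (Chars r))

/-- The coordinate functions. -/
def coord (i : Fin r) : FunF F r := mon F r (Multiplicative.ofAdd (Pi.single i 1))

variable {F r}

theorem mon_ne_zero (g : Chars r) : mon F r g ≠ 0 := fun h => by
  have h1 : mon F r g * mon F r g⁻¹ = 1 := by rw [← map_mul, mul_inv_cancel, map_one]
  rw [h, zero_mul] at h1
  exact zero_ne_one h1

/-- The exponents of monomials. -/
def expo : (Fin r →₀ ℕ) →+ (Fin r → ℤ) where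
  toFun d i := (d i : ℤ)
  map_zero' := by ext; simp
  map_add' d d' := by ext; simp

theorem algebraicIndependent_coord : AlgebraicIndependent F (coord F r) := by
  let f : MvPolynomial (Fin r) F →ₐ[F] MonoidAlgebra F (Chars r) :=
    MvPolynomial.aeval fun i => MonoidAlgebra.of F (Chars r) (Multiplicative.ofAdd (Pi.single i 1))
  have hf : ∀ d : Fin r →₀ ℕ, ∀ a : F, f (MvPolynomial.monomial d a) = MonoidAlgebra.single (Multiplicative.ofAdd (expo d)) a := by
    intro d a
    rw [MvPolynomial.aeval_monomial, Finsupp.prod_fintype _ _ (fun i => pow_zero _)]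
    simp only [← map_pow, ← map_prod]
    rw [← Algebra.smul_def, MonoidAlgebra.of_apply, MonoidAlgebra.smul_single, smul_eq_mul, mul_one]
    congr 1
    apply Multiplicative.toAdd.injective
    ext k
    rw [toAdd_prod, Finset.sum_apply, toAdd_ofAdd]
    simp [expo, Pi.single_apply]
  have hexp : Function.Injective (fun d : Fin r →₀ ℕ => Multiplicative.ofAdd (expo d)) := fun d d' h => by
    ext i
    exact Int.ofNat_injective (congrFun (Multiplicative.ofAdd.injective h) i)
  have hinj : Function.Injective f := by
    rw [injective_iff_map_eq_zero]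
    intro P hP
    ext d
    have h1 : f P = ∑ e ∈ P.support, MonoidAlgebra.single (Multiplicative.ofAdd (expo e)) (P.coeff e) := by
      conv_lhs => rw [P.as_sum]
      rw [map_sum]
      simp only [hf]
    have h2 : MonoidAlgebra.coeff (f P) (Multiplicative.ofAdd (expo d)) = 0 := by rw [hP]; simp
    rw [h1, MonoidAlgebra.coeff_sum, Finsupp.finsetSum_apply, Finset.sum_eq_single d
      (fun e _ he => by rw [MonoidAlgebra.coeff_single, Finsupp.single_eq_of_ne (fun h => he (hexp h.symm))])
      (fun hd => by rw [MvPolynomial.notMem_support_iff.1 hd]; simp)] at h2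
    simpa using h2
  have hc : MvPolynomial.aeval (coord F r) = ((IsScalarTower.toAlgHom F _ (FunF F r)).comp f) := by
    refine MvPolynomial.algHom_ext fun i => ?_
    simp [f, coord, mon]
  show Function.Injective (MvPolynomial.aeval (coord F r))
  rw [hc]
  exact (IsFractionRing.injective (MonoidAlgebra F (Chars r)) (FunF F r)).comp hinj

theorem adjoin_coord : IntermediateField.adjoin F (Set.range (coord F r)) = ⊤ := by
  let E := IntermediateField.adjoin F (Set.range (coord F r))
  have hmon : ∀ g : Chars r, mon F r g ∈ E := fun g => by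
    have hg : g = ∏ i, Multiplicative.ofAdd (Pi.single i (1 : ℤ)) ^ (Multiplicative.toAdd g i) := by
      apply Multiplicative.toAdd.injective
      ext k
      rw [toAdd_prod, Finset.sum_apply]
      simp [toAdd_zpow, Pi.single_apply]
    rw [hg, map_prod]
    refine prod_mem fun i _ => ?_
    rw [map_zpow' (mon F r) (fun a => eq_inv_of_mul_eq_one_left (by rw [← map_mul, inv_mul_cancel, map_one]))]
    exact zpow_mem (IntermediateField.subset_adjoin F _ (Set.mem_range_self (f := coord F r) i)) _
  refine eq_top_iff.2 fun x _ => ?_
  obtain ⟨a, b, -, rfl⟩ := IsFractionRing.div_surjective (MonoidAlgebra F (Chars r)) x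
  have hmem : ∀ a : MonoidAlgebra F (Chars r), algebraMap _ (FunF F r) a ∈ E := fun a => by
    refine MonoidAlgebra.induction_on (motive := fun a => algebraMap _ (FunF F r) a ∈ E) a (fun g => hmon g)
      (fun a b ha hb => by rw [map_add]; exact add_mem ha hb) (fun c a ha => ?_)
    rw [Algebra.smul_def, map_mul, ← IsScalarTower.algebraMap_apply]
    exact mul_mem (E.algebraMap_mem c) ha
  exact div_mem (hmem a) (hmem b)

theorem isAlgebraic_top :
    Algebra.IsAlgebraic (⊤ : IntermediateField F (FunF F r)) (FunF F r) :=
  ⟨fun x => isAlgebraic_algebraMap (A := FunF F r) (⟨x, trivial⟩ : (⊤ : IntermediateField F (FunF F r)))⟩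

theorem isTranscendenceBasis_coord : IsTranscendenceBasis F (coord F r) := by
  refine algebraicIndependent_coord.isTranscendenceBasis_iff_isAlgebraic.2 ?_
  rw [← IntermediateField.isAlgebraic_adjoin_iff_top, adjoin_coord]
  exact isAlgebraic_top

theorem trdeg_funF : Algebra.trdeg F (FunF F r) = r := by
  have h := (isTranscendenceBasis_coord (F := F) (r := r)).lift_cardinalMk_eq_trdeg
  rw [Cardinal.mk_fin, Cardinal.lift_natCast, Cardinal.lift_uzero] at h
  exact h.symm

/-- `r` independent functions on the torus generate an extension over which everything is algebraic. -/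
theorem isAlgebraic_of_indep (a : Fin r → FunF F r) (ha : AlgebraicIndependent F a) (x : FunF F r) :
    IsAlgebraic (IntermediateField.adjoin F (Set.range a)) x := by
  have h := ha.isTranscendenceBasis_of_lift_trdeg_le_of_finite (by rw [trdeg_funF]; simp)
  rw [IntermediateField.isAlgebraic_adjoin_iff]
  exact h.isAlgebraic.1 x

/-- A finite generating set of the function field contains `r` independent functions. -/
theorem exists_indep (s : Set (FunF F r)) (hs : IntermediateField.adjoin F s = ⊤) :
    ∃ a : Fin r → FunF F r, (∀ i, a i ∈ s) ∧ AlgebraicIndependent F a := by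
  haveI : Algebra.IsAlgebraic (Algebra.adjoin F s) (FunF F r) := by
    rw [← IntermediateField.isAlgebraic_adjoin_iff_top, hs]
    exact isAlgebraic_top
  obtain ⟨t, hts, ht⟩ := exists_isTranscendenceBasis_subset (R := F) (A := FunF F r) s
  have hc : Cardinal.mk t = r := ht.cardinalMk_eq_trdeg.trans trdeg_funF
  obtain ⟨e⟩ := Cardinal.lift_mk_eq'.1 (show Cardinal.lift.{u} (Cardinal.mk (Fin r)) = Cardinal.lift.{0} (Cardinal.mk t) by
    rw [hc, Cardinal.mk_fin, Cardinal.lift_natCast, Cardinal.lift_uzero])
  exact ⟨fun i => (e i).1, fun i => hts (e i).2, ht.1.comp e e.injective⟩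

end Groth.Agent.MultClosed
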