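import Groth.Agent.MaxTorus.Basic
import Groth.Agent.MultClosed.Indep
import Groth.Agent.MultClosed.Torus
/-!
Points with values in algebras over a fixed ring, and the twists of the function field of a torus.
-/

set_option autoImplicit false
set_option backward.isDefEq.respectTransparency false
set_option backward.isDefEq.respectTransparency.types false
set_option linter.style.haveILetI false

universe u

open CategoryTheory CategoryTheory.Limits MonoidalCategory CartesianMonoidalCategory MonObj AlgebraicGeometry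

noncomputable section

namespace Groth.Agent.MultClosed

open FixedSmooth DSMapLib

variable {S : Scheme.{u}} {M : Type} [AddCommGroup M]

theorem dsPt_nat {B C : CommRingCat.{u}} (q : Spec B ⟶ S) (q' : Spec C ⟶ S) (h : B ⟶ C) (e : Spec.map h ≫ q = q')
    (χ : Multiplicative M →* B) :
    (Over.homMk (Spec.map h) e : Over.mk q' ⟶ Over.mk q) ≫ dsPt M q χ = dsPt M q' (h.hom.toMonoidHom.comp χ) := by
  subst e
  letI := zAlg B
  letI := zAlg C
  have hd := dsPtAux_natural (ULift.{u} ℤ) M (Limits.IsTerminal.from specULiftZIsTerminal S) (B := B) (B' := C)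
    q h (specULiftZIsTerminal.hom_ext _ _) (specULiftZIsTerminal.hom_ext _ _) (fun r => map_intCast h.hom r.down) χ
  exact hd

theorem mulEquiv_comp_mul {A : Type*} [Monoid A] {X H G : Over S} {_ : MonObj H} [GrpObj G] (e : A ≃* (X ⟶ H))
    (g : H ⟶ G) [IsMonHom g] (a b : A) : e (a * b) ≫ g = (e a ≫ g) * (e b ≫ g) := by
  rw [map_mul, MonObj.mul_comp]

theorem mulEquiv_comp_pow {A : Type*} [Monoid A] {X H G : Over S} {_ : MonObj H} [GrpObj G] (e : A ≃* (X ⟶ H))
    (g : H ⟶ G) [IsMonHom g] (a : A) (n : ℕ) : e (a ^ n) ≫ g = (e a ≫ g) ^ n := by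
  induction n with
  | zero => rw [pow_zero, pow_zero, map_one, MonObj.one_comp]
  | succ n ih => rw [pow_succ, pow_succ, mulEquiv_comp_mul, ih]

section

variable {R : Type u} [CommRing R] (q₀ : Spec (CommRingCat.of R) ⟶ S) {B C : Type u} [CommRing B] [CommRing C]

/-- The base of a point with values in an algebra. -/
abbrev qOf (f : R →+* B) : Spec (CommRingCat.of B) ⟶ S := Spec.map (CommRingCat.ofHom f) ≫ q₀

/-- The restriction of the base. -/
def res (f : R →+* B) : Over.mk (qOf q₀ f) ⟶ Over.mk q₀ := Over.homMk (Spec.map (CommRingCat.ofHom f)) rfl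

/-- The map of bases along a map of algebras. -/
def push {f : R →+* B} {f' : R →+* C} (h : B →+* C) (e : h.comp f = f') : Over.mk (qOf q₀ f') ⟶ Over.mk (qOf q₀ f) :=
  Over.homMk (Spec.map (CommRingCat.ofHom h)) (by
    subst e
    simp [qOf, CommRingCat.ofHom_comp])

theorem push_res {f : R →+* B} {f' : R →+* C} (h : B →+* C) (e : h.comp f = f') :
    push q₀ h e ≫ res q₀ f = res q₀ f' := by
  subst e
  refine Over.OverMorphism.ext ?_
  show Spec.map _ ≫ Spec.map _ = Spec.map _
  rw [← Spec.map_comp, ← CommRingCat.ofHom_comp]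

variable {G : Over S} [GrpObj G] (g : Red.DS S M ⟶ G)

/-- The point of `G` given by a character. -/
def ev (f : R →+* B) (θ : Multiplicative M →* B) : Over.mk (qOf q₀ f) ⟶ G :=
  dsPt M (B := CommRingCat.of B) (qOf q₀ f) θ ≫ g

theorem push_ev {f : R →+* B} {f' : R →+* C} (h : B →+* C) (e : h.comp f = f') (θ : Multiplicative M →* B) :
    push q₀ h e ≫ ev q₀ g f θ = ev q₀ g f' (h.toMonoidHom.comp θ) := by
  exact (Category.assoc _ _ _).symm.trans (congrArg (· ≫ g)
    (dsPt_nat (B := CommRingCat.of B) (C := CommRingCat.of C) (qOf q₀ f) (qOf q₀ f') (CommRingCat.ofHom h) _ θ))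

theorem ev_mul [IsMonHom g] (f : R →+* B) (θ θ' : Multiplicative M →* B) :
    ev q₀ g f (θ * θ') = ev q₀ g f θ * ev q₀ g f θ' := by
  exact mulEquiv_comp_mul (dsPt M (B := CommRingCat.of B) (qOf q₀ f)) g θ θ'

theorem ev_pow [IsMonHom g] (f : R →+* B) (θ : Multiplicative M →* B) (n : ℕ) :
    ev q₀ g f (θ ^ n) = ev q₀ g f θ ^ n := by
  exact mulEquiv_comp_pow (dsPt M (B := CommRingCat.of B) (qOf q₀ f)) g θ n

theorem ev_injective [Mono g] (f : R →+* B) : Function.Injective (ev (M := M) q₀ g f) := fun a b h =>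
  (dsPt M (B := CommRingCat.of B) (qOf q₀ f)).injective ((cancel_mono g).1 h)

end

section

variable {K : Type u} [Field K] {r : ℕ}

/-- The twist of the group algebra by a character. -/
def tw (ψ : Chars r →* K) : MonoidAlgebra K (Chars r) →ₐ[K] MonoidAlgebra K (Chars r) :=
  MonoidAlgebra.lift K _ (Chars r)
    { toFun := fun l => MonoidAlgebra.single l (ψ l)
      map_one' := by rw [map_one, MonoidAlgebra.one_def]
      map_mul' := fun a b => by rw [MonoidAlgebra.single_mul_single, map_mul] }

theorem tw_single (ψ : Chars r →* K) (l : Chars r) (a : K) :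
    tw ψ (MonoidAlgebra.single l a) = MonoidAlgebra.single l (a * ψ l) := by
  simp [tw, MonoidAlgebra.lift_single, MonoidAlgebra.smul_single]

theorem tw_tw (ψ ψ' : Chars r →* K) (h : ψ' * ψ = 1) (x : MonoidAlgebra K (Chars r)) : tw ψ (tw ψ' x) = x := by
  have : (tw ψ).comp (tw ψ') = AlgHom.id K _ := MonoidAlgebra.algHom_ext (fun l => by
    show tw ψ (tw ψ' (MonoidAlgebra.single l 1)) = MonoidAlgebra.single l 1
    rw [tw_single, tw_single, _root_.one_mul, ← MonoidHom.mul_apply, h, MonoidHom.one_apply]) (by ext)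
  exact DFunLike.congr_fun this x

theorem tw_injective (ψ : Chars r →* K) : Function.Injective (tw ψ) := by
  let ψ' : Chars r →* K := ψ.comp (MulEquiv.inv (Chars r)).toMonoidHom
  refine Function.LeftInverse.injective (g := tw ψ') fun x => tw_tw ψ' ψ (MonoidHom.ext fun l => ?_) x
  show ψ l * ψ l⁻¹ = 1
  rw [← map_mul, mul_inv_cancel, map_one]

/-- The twist of the function field by a character. -/
def twist (ψ : Chars r →* K) : FunF K r →ₐ[K] FunF K r :=
  IsFractionRing.liftAlgHom (g := (IsScalarTower.toAlgHom K (MonoidAlgebra K (Chars r)) (FunF K r)).comp (tw ψ))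
    ((IsFractionRing.injective (MonoidAlgebra K (Chars r)) (FunF K r)).comp (tw_injective ψ))

theorem twist_mon (ψ : Chars r →* K) (l : Chars r) : twist ψ (mon K r l) = algebraMap K _ (ψ l) * mon K r l := by
  have h1 : twist ψ (mon K r l) = algebraMap _ (FunF K r) (tw ψ (MonoidAlgebra.single l 1)) :=
    IsFractionRing.lift_algebraMap
      (g := ((IsScalarTower.toAlgHom K (MonoidAlgebra K (Chars r)) (FunF K r)).comp (tw ψ)).toRingHom)
      ((IsFractionRing.injective (MonoidAlgebra K (Chars r)) (FunF K r)).comp (tw_injective ψ)) _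
  have h2 : tw ψ (MonoidAlgebra.single l 1) = algebraMap K _ (ψ l) * MonoidAlgebra.single l 1 := by
    rw [tw_single]
    simp
  rw [h1, h2, map_mul, ← IsScalarTower.algebraMap_apply K (MonoidAlgebra K (Chars r)) (FunF K r)]
  rfl

theorem ringHom_ext_funF {C : Type*} [CommRing C] {a b : FunF K r →+* C}
    (h₁ : a.comp (algebraMap K (FunF K r)) = b.comp (algebraMap K (FunF K r))) (h₂ : ∀ l, a (mon K r l) = b (mon K r l)) :
    a = b := by
  refine IsLocalization.ringHom_ext (nonZeroDivisors (MonoidAlgebra K (Chars r)))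
    (MonoidAlgebra.ringHom_ext (fun c => ?_) fun l => h₂ l)
  have := RingHom.congr_fun h₁ c
  rw [IsScalarTower.algebraMap_eq K (MonoidAlgebra K (Chars r)) (FunF K r)] at this
  simpa using this

end

end Groth.Agent.MultClosed
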