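import Groth.Agent.MultClosed.Units
/-!
A monomorphism of a diagonalisable group of finite type into a separated quasi-compact group is a closed
immersion.
-/

set_option autoImplicit false
set_option backward.isDefEq.respectTransparency false
set_option backward.isDefEq.respectTransparency.types false
set_option linter.style.haveILetI false
set_option linter.unusedSectionVars false

universe u

open CategoryTheory CategoryTheory.Limits MonoidalCategory CartesianMonoidalCategory MonObj AlgebraicGeometry

noncomputable section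

namespace Groth.Agent.MultClosed

open FixedSmooth DSMapLib

/-- A torsion-free quotient by the torsion subgroup, as a standard lattice. -/
theorem exists_lattice (N : Type) [AddCommGroup N] [AddGroup.FG N] :
    ∃ (r : ℕ) (π : N →+ (Fin r → ℤ)), Function.Surjective π ∧ π.ker = AddCommGroup.torsion N ∧
      Finite (AddCommGroup.torsion N) := by
  haveI : Module.Finite ℤ N := Module.Finite.iff_addGroup_fg.2 inferInstance
  haveI : AddGroup.FG (AddCommGroup.torsion N) := Module.Finite.iff_addGroup_fg.1 (inferInstanceAs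
    (Module.Finite ℤ (AddSubgroup.toIntSubmodule (AddCommGroup.torsion N))))
  haveI : Module.Finite ℤ (N ⧸ AddCommGroup.torsion N) :=
    Module.Finite.of_surjective (QuotientAddGroup.mk' (AddCommGroup.torsion N)).toIntLinearMap
      (QuotientAddGroup.mk'_surjective _)
  haveI : IsAddTorsionFree (N ⧸ AddCommGroup.torsion N) := inferInstance
  let b := Module.finBasis ℤ (N ⧸ AddCommGroup.torsion N)
  refine ⟨_, (b.equivFun.toAddEquiv.toAddMonoidHom).comp (QuotientAddGroup.mk' _),
    b.equivFun.surjective.comp (QuotientAddGroup.mk'_surjective _), ?_, AddCommGroup.finite_of_fg_isAddTorsion _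
      fun x => isOfFinAddOrder_iff_nsmul_eq_zero.2 (by
        obtain ⟨n, hn, hx⟩ := isOfFinAddOrder_iff_nsmul_eq_zero.1 ((AddCommGroup.mem_torsion x.1).1 x.2)
        exact ⟨n, hn, Subtype.ext hx⟩)⟩
  ext n
  rw [AddMonoidHom.mem_ker, AddMonoidHom.comp_apply]
  exact (map_eq_zero_iff _ b.equivFun.injective).trans (QuotientAddGroup.eq_zero_iff n)

variable {S : Scheme.{u}}

/-- The values of a rational point of a diagonalisable subgroup extending to an integral point are units. -/
theorem exists_char_unit {N : Type} [AddCommGroup N] [AddGroup.FG N] {G : Over S} [GrpObj G] [QuasiCompact G.hom]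
    [LocallyOfFiniteType G.hom] (g : Red.DS S N ⟶ G) [IsMonHom g] [Mono g] {R : Type u} [CommRing R] [IsDomain R]
    [ValuationRing R] {K : Type u} [Field K] [Algebra R K] [IsFractionRing R K] (q₀ : Spec (CommRingCat.of R) ⟶ S)
    (χ : Multiplicative N →* K) (x : Over.mk q₀ ⟶ G)
    (hx : res q₀ (algebraMap R K) ≫ x = ev q₀ g (algebraMap R K) χ) :
    ∃ χ' : Multiplicative N →* R, (algebraMap R K).toMonoidHom.comp χ' = χ := by
  obtain ⟨r, π, hπ, hker, _⟩ := exists_lattice N
  let e := Nat.card (AddCommGroup.torsion N)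
  have he : e ≠ 0 := Nat.card_pos.ne'
  have hle : π.toMultiplicative.ker ≤ MonoidHom.ker (χ ^ e).toHomUnits := fun n hn => by
    have ht : Multiplicative.toAdd n ∈ AddCommGroup.torsion N := hker.le hn
    have hn1 : n ^ e = 1 := congrArg Multiplicative.ofAdd
      (congrArg Subtype.val (card_nsmul_eq_zero' (x := (⟨_, ht⟩ : AddCommGroup.torsion N))))
    refine Units.ext ?_
    show (χ ^ e) n = 1
    rw [MonoidHom.pow_apply, ← map_pow, hn1, map_one]
  let χ₁ : Chars r →* K := (Units.coeHom K).comp
    ((π.toMultiplicative).liftOfSurjective hπ ⟨(χ ^ e).toHomUnits, hle⟩)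
  have hχ₁ : ∀ n, χ₁ (π.toMultiplicative n) = χ n ^ e := fun n =>
    (congrArg Units.val (MonoidHom.liftOfRightInverse_comp_apply π.toMultiplicative (Function.surjInv hπ)
      (Function.rightInverse_surjInv hπ) ⟨(χ ^ e).toHomUnits, hle⟩ n)).trans (MonoidHom.pow_apply χ e n)
  haveI := isMonHom_DSmap S π
  haveI : Mono (Red.DSmap S π).left := mono_of_isClosedImmersion _ (isClosedImmersion_DSmap S π hπ)
  haveI : Mono (Red.DSmap S π) := (Over.forget S).mono_of_mono_map (f := Red.DSmap S π) ‹_›
  haveI : IsMonHom (Red.DSmap S π ≫ g) := inferInstance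
  haveI : Mono (Red.DSmap S π ≫ g) := mono_comp _ _
  have hx₁ : res q₀ (algebraMap R K) ≫ x ^ e = ev q₀ (Red.DSmap S π ≫ g) (algebraMap R K) χ₁ := by
    rw [MonObj.comp_pow, hx, ← ev_pow, ev, ev, ← Category.assoc, dsPt_comp]
    exact congrArg (fun c => dsPt N (B := CommRingCat.of K) _ c ≫ g) (MonoidHom.ext fun n => (hχ₁ n).symm)
  haveI : IsIntegrallyClosed R := inferInstance
  have hval : ∀ n, ∃ a : R, algebraMap R K a = χ n := fun n => by
    obtain ⟨v, hv⟩ := exists_unit (Red.DSmap S π ≫ g) q₀ χ₁ (x ^ e) hx₁ (π.toMultiplicative n)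
    rw [hχ₁] at hv
    exact IsIntegrallyClosed.isIntegral_iff.1
      (IsIntegral.of_pow (Nat.pos_of_ne_zero he) (hv ▸ isIntegral_algebraMap))
  choose a ha using hval
  exact ⟨{ toFun := a
           map_one' := IsFractionRing.injective R K (by rw [ha, map_one, map_one])
           map_mul' := fun m n => IsFractionRing.injective R K (by rw [ha, map_mul, map_mul, ha, ha]) },
    MonoidHom.ext ha⟩

/-- A monomorphism of a diagonalisable group of finite type into a separated quasi-compact group locally of
finite type is a closed immersion. -/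
theorem isClosedImmersion_of_mono {N : Type} [AddCommGroup N] [AddGroup.FG N] {G : Over S} [GrpObj G]
    [IsSeparated G.hom] [QuasiCompact G.hom] [LocallyOfFiniteType G.hom] (g : Red.DS S N ⟶ G) [IsMonHom g] [Mono g] :
    IsClosedImmersion g.left := by
  haveI : Mono g.left := (Over.forget S).map_mono g
  haveI := isAffineHom_DS S N
  haveI : LocallyOfFinitePresentation (Red.DS S N).hom := locallyOfFinitePresentation_DS S N inferInstance
  haveI : QuasiCompact (g.left ≫ G.hom) := by rw [Over.w g]; infer_instance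
  haveI : QuasiCompact g.left := QuasiCompact.of_comp g.left G.hom
  haveI : LocallyOfFiniteType (g.left ≫ G.hom) := by rw [Over.w g]; infer_instance
  haveI : LocallyOfFiniteType g.left := locallyOfFiniteType_of_comp g.left G.hom
  have hex : ValuativeCriterion.Existence g.left := fun sq => by
    obtain ⟨R, K, i₁, i₂, ⟨w⟩⟩ := sq
    let q₀ := i₂ ≫ G.hom
    let fK := algebraMap R K
    let i₁' : Over.mk (qOf q₀ fK) ⟶ Red.DS S N := Over.homMk i₁ (by
      show i₁ ≫ _ = Spec.map _ ≫ i₂ ≫ G.hom
      rw [← Over.w g, reassoc_of% w])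
    let x : Over.mk q₀ ⟶ G := Over.homMk i₂ rfl
    obtain ⟨χ, hχ⟩ := (dsPt N (B := CommRingCat.of K) (qOf q₀ fK)).surjective i₁'
    have hx : res q₀ fK ≫ x = ev q₀ g fK χ := by
      rw [ev, hχ]
      exact Over.OverMorphism.ext w.symm
    obtain ⟨χ', hχ'⟩ := exists_char_unit g q₀ χ x hx
    let l : Over.mk q₀ ⟶ Red.DS S N := dsPt N (B := CommRingCat.of R) q₀ χ'
    have hl : res q₀ fK ≫ l = i₁' := by
      refine (dsPt_nat (B := CommRingCat.of R) (C := CommRingCat.of K) q₀ (qOf q₀ fK) (CommRingCat.ofHom fK) _ χ').trans ?_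
      rw [← hχ]
      exact congrArg _ hχ'
    have hl₁ : Spec.map (CommRingCat.ofHom fK) ≫ l.left = i₁ := congrArg CommaMorphism.left hl
    refine ⟨⟨⟨l.left, hl₁, ?_⟩⟩⟩
    haveI : IsDominant (Spec.map (CommRingCat.ofHom fK)) :=
      ⟨(PrimeSpectrum.denseRange_comap_iff_ker_le_nilRadical _).2
        (le_of_eq_of_le ((RingHom.injective_iff_ker_eq_bot _).1 (IsFractionRing.injective R K)) bot_le)⟩
    refine ext_of_isDominant_of_isSeparated G.hom ?_ (Spec.map (CommRingCat.ofHom fK)) ?_
    · rw [Category.assoc, Over.w g]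
      exact Over.w l
    · rw [reassoc_of% hl₁]
      exact w
  haveI := UniversallyClosed.of_valuativeCriterion g.left hex
  exact (IsClosedImmersion.iff_isProper_and_mono g.left).2 ⟨{ }, inferInstance⟩

end Groth.Agent.MultClosed
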