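import Groth.Agent.MultClosed.Points
/-!
A rational point of a torus which extends to an integral point of a quasi-compact group containing the torus
takes unit values.
-/

set_option autoImplicit false
set_option backward.isDefEq.respectTransparency false
set_option backward.isDefEq.respectTransparency.types false
set_option linter.style.haveILetI false
set_option linter.unusedSectionVars false

universe u

open CategoryTheory CategoryTheory.Limits MonoidalCategory CartesianMonoidalCategory MonObj AlgebraicGeometry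

noncomputable section

namespace Groth.Agent.MultClosed

open IsLocalRing

theorem exists_infinite_of_forall {M : Set ℕ} (hM : M.Infinite) {α : Type*} [Finite α] (P : ℕ → α → Prop)
    (h : ∀ m ∈ M, ∃ i, P m i) : ∃ i, {m ∈ M | P m i}.Infinite := by
  by_contra hn
  simp only [not_exists, Set.not_infinite] at hn
  refine hM ((Set.finite_iUnion hn).subset fun m hm => ?_)
  obtain ⟨i, hi⟩ := h m hm
  exact Set.mem_iUnion.2 ⟨i, hm, hi⟩

theorem mem_of_closedPoint {R : Type u} [CommRing R] [IsLocalRing R] {X : Scheme.{u}}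
    (f : Spec (CommRingCat.of R) ⟶ X) (U : X.Opens) (h : f (closedPoint R) ∈ U) : Set.range f ⊆ (U : Set X) := by
  rintro _ ⟨y, rfl⟩
  exact ((IsLocalRing.specializes_closedPoint y).map f.continuous).mem_open U.isOpen h

theorem exists_gens {A Γ : Type*} [CommRing A] [CommRing Γ] (α : A →+* Γ) (hα : α.FiniteType) :
    ∃ b : Finset Γ, ∀ T : Subring Γ, (∀ a, α a ∈ T) → (∀ x ∈ b, x ∈ T) → ∀ y, y ∈ T := by
  letI := α.toAlgebra
  obtain ⟨b, hb⟩ := (show Algebra.FiniteType A Γ from hα).out
  refine ⟨b, fun T hαT hbT y => ?_⟩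
  have hy : y ∈ Algebra.adjoin A (b : Set Γ) := by rw [hb]; exact trivial
  induction hy using Algebra.adjoin_induction with
  | mem x hx => exact hbT x hx
  | algebraMap a => exact hαT a
  | add x y _ _ hx hy => exact add_mem hx hy
  | mul x y _ _ hx hy => exact mul_mem hx hy

theorem mem_of_tmul_eq {k Λ : Type u} [Field k] [Field Λ] [Algebra k Λ] (F : IntermediateField k Λ) (z : Λ)
    (h : (z ⊗ₜ[F] (1 : Λ) : TensorProduct F Λ Λ) = 1 ⊗ₜ z) : z ∈ F := by
  obtain ⟨l, hl⟩ := (Algebra.linearMap F Λ).exists_leftInverse_of_injective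
    (LinearMap.ker_eq_bot.2 (algebraMap F Λ).injective)
  have h1 : l 1 = 1 := by simpa using LinearMap.congr_fun hl 1
  have := congrArg (TensorProduct.lift (LinearMap.mk₂ F (fun a b => l b • a) (fun a a' b => smul_add _ _ _)
    (fun c a b => smul_comm _ _ _) (fun a b b' => by simp only [map_add, add_smul])
    (fun c a b => by simp only [map_smul, smul_assoc]))) h
  simp only [TensorProduct.lift.tmul, LinearMap.mk₂_apply, h1, _root_.one_smul] at this
  rw [this, Algebra.smul_def, _root_.mul_one]
  exact (l z).2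

variable (R : Type u) [CommRing R] [IsDomain R] [ValuationRing R] (K : Type u) [Field K] [Algebra R K]
  [IsFractionRing R K] (r : ℕ)

local notation "k" => IsLocalRing.ResidueField R
local notation "A" => MonoidAlgebra R (Chars r)

/-- Reduction to the function field of the special fibre. -/
def redA : A →+* FunF k r :=
  (algebraMap (MonoidAlgebra k (Chars r)) (FunF k r)).comp (MonoidAlgebra.mapRingHom _ (residue R))

instance : (RingHom.ker (redA R r)).IsPrime := RingHom.ker_isPrime _

/-- The local ring of the torus at the generic point of the special fibre. -/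
abbrev GenLoc := Localization.AtPrime (RingHom.ker (redA R r))

/-- Reduction on the local ring. -/
def red : GenLoc R r →+* FunF k r :=
  IsLocalization.lift (M := (RingHom.ker (redA R r)).primeCompl) (g := redA R r) fun y =>
    IsUnit.mk0 _ fun h => y.2 (RingHom.mem_ker.2 h)

/-- The tautological character. -/
def taut : Chars r →* GenLoc R r := (algebraMap A (GenLoc R r)).toMonoidHom.comp (MonoidAlgebra.of R (Chars r))

theorem red_algebraMap (x : R) : red R r (algebraMap R (GenLoc R r) x) = algebraMap k (FunF k r) (residue R x) := by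
  rw [IsScalarTower.algebraMap_apply R A (GenLoc R r), red, IsLocalization.lift_eq, redA, RingHom.comp_apply,
    IsScalarTower.algebraMap_apply k (MonoidAlgebra k (Chars r)) (FunF k r)]
  congr 1
  simp

theorem red_taut (l : Chars r) : red R r (taut R r l) = mon k r l := by
  show red R r (algebraMap A (GenLoc R r) (MonoidAlgebra.single l 1)) = _
  rw [red, IsLocalization.lift_eq, redA, RingHom.comp_apply]
  simp [mon]

/-- The map to the function field of the generic fibre, on the group algebra. -/
def incA : A →ₐ[R] FunF K r := MonoidAlgebra.lift R (FunF K r) (Chars r) (mon K r)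

theorem incA_injective : Function.Injective (incA R K r) := by
  have : (incA R K r).toRingHom =
      (algebraMap (MonoidAlgebra K (Chars r)) (FunF K r)).comp (MonoidAlgebra.mapRingHom _ (algebraMap R K)) := by
    refine MonoidAlgebra.ringHom_ext (fun c => ?_) fun l => ?_
    · simp only [AlgHom.toRingHom_eq_coe, RingHom.coe_coe, incA, MonoidAlgebra.lift_single, RingHom.comp_apply,
        MonoidAlgebra.mapRingHom_single, map_one]
      rw [Algebra.smul_def, _root_.mul_one, IsScalarTower.algebraMap_apply R K (FunF K r),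
        IsScalarTower.algebraMap_apply K (MonoidAlgebra K (Chars r)) (FunF K r)]
      simp
    · simp [incA, mon]
  intro x y h
  have h' : (incA R K r).toRingHom x = (incA R K r).toRingHom y := h
  rw [this] at h'
  have h1 := IsFractionRing.injective (MonoidAlgebra K (Chars r)) (FunF K r) h'
  refine MonoidAlgebra.coeff_injective (Finsupp.ext fun l => IsFractionRing.injective R K ?_)
  simpa using DFunLike.congr_fun (congrArg MonoidAlgebra.coeff h1) l

/-- The map to the function field of the generic fibre. -/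
def inc : GenLoc R r →ₐ[R] FunF K r :=
  IsLocalization.liftAlgHom (M := (RingHom.ker (redA R r)).primeCompl) (f := incA R K r) fun y =>
    IsUnit.mk0 _ ((map_ne_zero_iff _ (incA_injective R K r)).2 fun h => y.2 (by
      show redA R r y.1 = 0
      rw [h, map_zero]))

theorem inc_injective : Function.Injective (inc R K r) := by
  show Function.Injective (IsLocalization.lift _)
  rw [IsLocalization.lift_injective_iff]
  intro x y
  exact ⟨fun h => congrArg _ (IsLocalization.injective (GenLoc R r)
      (RingHom.ker (redA R r)).primeCompl_le_nonZeroDivisors h),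
    fun h => congrArg _ (incA_injective R K r h)⟩

theorem inc_taut (l : Chars r) : inc R K r (taut R r l) = mon K r l := by
  show IsLocalization.lift _ _ = _
  show IsLocalization.lift _ (algebraMap A (GenLoc R r) (MonoidAlgebra.single l 1)) = _
  rw [IsLocalization.lift_eq]
  simp [incA]

variable {R K r} {S : Scheme.{u}} {G : Over S} [GrpObj G]

set_option maxHeartbeats 1000000 in
/-- No character value of a rational point of the torus extending to an integral point of `G` lies in the
maximal ideal. -/
theorem value_not_mem [QuasiCompact G.hom] [LocallyOfFiniteType G.hom] (g : Red.DS S (Fin r → ℤ) ⟶ G) [IsMonHom g]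
    [Mono g] (q₀ : Spec (CommRingCat.of R) ⟶ S) (χ : Chars r →* K) (x : Over.mk q₀ ⟶ G)
    (hx : res q₀ (algebraMap R K) ≫ x = ev q₀ g (algebraMap R K) χ) (l : Chars r) (c : R) (hc : c ∈ maximalIdeal R)
    (hχ : algebraMap R K c = χ l) : False := by
  classical
  have hc0 : c ≠ 0 := fun h => by
    have h1 : χ l * χ l⁻¹ = 1 := by rw [← map_mul, mul_inv_cancel, map_one]
    rw [← hχ, h, map_zero, zero_mul] at h1
    exact zero_ne_one h1
  let O := GenLoc R r
  let Λ := FunF k r
  let L := FunF K r
  let fO : R →+* O := algebraMap R O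
  let fL : R →+* L := algebraMap R L
  let fΛ : R →+* Λ := (algebraMap k Λ).comp (residue R)
  have eL : (inc R K r).toRingHom.comp fO = fL := (inc R K r).comp_algebraMap
  have eΛ : (red R r).comp fO = fΛ := RingHom.ext (red_algebraMap R r)
  let y : ℕ → (Over.mk (qOf q₀ fO) ⟶ G) := fun m => (res q₀ fO ≫ x) ^ m * ev q₀ g fO (taut R r)
  let χL : Chars r →* L := (algebraMap K L).toMonoidHom.comp χ
  have hL : ∀ m, push q₀ (inc R K r).toRingHom eL ≫ y m = ev q₀ g fL (χL ^ m * mon K r) := fun m => by
    have hxL : res q₀ fL ≫ x = ev q₀ g fL χL := by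
      have e : (algebraMap K L).comp (algebraMap R K) = fL := (IsScalarTower.algebraMap_eq R K L).symm
      rw [← push_res q₀ (algebraMap K L) e, Category.assoc, hx, push_ev]
    rw [MonObj.comp_mul, MonObj.comp_pow, ← Category.assoc, push_res, hxL, push_ev, ev_mul, ev_pow]
    congr 2
    exact MonoidHom.ext (inc_taut R K r)
  -- an affine chart containing infinitely many of the points
  obtain ⟨U, hU, hsU, -⟩ := exists_isAffineOpen_mem_and_subset (x := q₀ (closedPoint R)) (U := ⊤) trivial
  obtain ⟨ψ, hψ⟩ := Spec.map_surjective (IsOpenImmersion.lift hU.fromSpec q₀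
    (by rw [hU.range_fromSpec]; exact mem_of_closedPoint q₀ U hsU))
  have hψq : Spec.map ψ ≫ hU.fromSpec = q₀ := by rw [hψ]; exact IsOpenImmersion.lift_fac _ _ _
  obtain ⟨Vs, hVs, hcov⟩ := (isCompact_iff_finite_and_eq_biUnion_affineOpens (U := G.hom ⁻¹ᵁ U)).1
    (G.hom.isCompact_preimage hU.isCompact)
  haveI := hVs.to_subtype
  have hclosed : ∀ m, (y m).left (closedPoint O) ∈ G.hom ⁻¹ᵁ U := fun m => by
    show G.hom ((y m).left (closedPoint O)) ∈ U
    rw [← Scheme.Hom.comp_apply, Over.w (y m)]
    exact mem_of_closedPoint q₀ U hsU ⟨_, rfl⟩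
  obtain ⟨V, hM⟩ := exists_infinite_of_forall (M := (Set.univ : Set ℕ)) Set.infinite_univ
    (fun m (V : Vs) => (y m).left (closedPoint O) ∈ V.1.1) fun m _ => by
      have := hclosed m
      rw [hcov] at this
      simp only [TopologicalSpace.Opens.mem_iSup] at this
      obtain ⟨V, hV, hmem⟩ := this
      exact ⟨⟨V, hV⟩, hmem⟩
  set M : Set ℕ := {m ∈ (Set.univ : Set ℕ) | (y m).left (closedPoint O) ∈ V.1.1}
  have hV : IsAffineOpen (V.1.1 : G.left.Opens) := V.1.2
  have hVU : V.1.1 ≤ G.hom ⁻¹ᵁ U := by
    rw [hcov]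
    exact le_iSup₂ (f := fun (i : G.left.affineOpens) _ => (i : G.left.Opens)) V.1 V.2
  have hφ : ∀ m ∈ M, ∃ φ : Γ(G.left, V.1.1) ⟶ CommRingCat.of O, Spec.map φ ≫ hV.fromSpec = (y m).left := fun m hm => by
    obtain ⟨φ, hφ⟩ := Spec.map_surjective (IsOpenImmersion.lift hV.fromSpec (y m).left
      (by rw [hV.range_fromSpec]; exact mem_of_closedPoint _ _ hm.2))
    exact ⟨φ, by rw [hφ]; exact IsOpenImmersion.lift_fac _ _ _⟩
  haveI : Nonempty (Γ(G.left, V.1.1) ⟶ CommRingCat.of O) := ⟨(hφ _ hM.nonempty.choose_spec).choose⟩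
  choose! φ hφ using hφ
  let α := (G.hom.appLE U V.1.1 hVU).hom
  have hbase : ∀ m ∈ M, (φ m).hom.comp α = fO.comp ψ.hom := fun m hm => by
    have : Spec.map (G.hom.appLE U V.1.1 hVU ≫ φ m) = Spec.map (ψ ≫ CommRingCat.ofHom fO) := by
      rw [← cancel_mono hU.fromSpec, Spec.map_comp, Spec.map_comp, Category.assoc, Category.assoc, hψq,
        IsAffineOpen.SpecMap_appLE_fromSpec G.hom hU hV hVU, reassoc_of% (hφ m hm), Over.w (y m)]
      rfl
    exact congrArg CommRingCat.Hom.hom (Spec.map_injective this)
  have heq : ∀ (C : Type u) [CommRing C] {f' : R →+* C} (h₁ h₂ : O →+* C) (e₁ : h₁.comp fO = f')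
      (e₂ : h₂.comp fO = f') (m₁ m₂ : ℕ), m₁ ∈ M → m₂ ∈ M →
      (h₁.comp (φ m₁).hom = h₂.comp (φ m₂).hom ↔ push q₀ h₁ e₁ ≫ y m₁ = push q₀ h₂ e₂ ≫ y m₂) := by
    intro C _ f' h₁ h₂ e₁ e₂ m₁ m₂ hm₁ hm₂
    constructor
    · intro h
      refine Over.OverMorphism.ext ?_
      show Spec.map _ ≫ (y m₁).left = Spec.map _ ≫ (y m₂).left
      rw [← hφ m₁ hm₁, ← hφ m₂ hm₂, ← Category.assoc, ← Category.assoc, ← Spec.map_comp, ← Spec.map_comp]
      exact congrArg (fun z => Spec.map z ≫ _) (CommRingCat.hom_ext h)
    · intro h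
      have h' : Spec.map (CommRingCat.ofHom h₁) ≫ (y m₁).left = Spec.map (CommRingCat.ofHom h₂) ≫ (y m₂).left :=
        congrArg CommaMorphism.left h
      rw [← hφ m₁ hm₁, ← hφ m₂ hm₂, ← Category.assoc, ← Category.assoc, ← Spec.map_comp, ← Spec.map_comp,
        cancel_mono hV.fromSpec] at h'
      exact congrArg CommRingCat.Hom.hom (Spec.map_injective h')
  -- the residues of generators generate the function field of the special fibre
  obtain ⟨b, hb⟩ := exists_gens α (G.hom.finiteType_appLE hU hV hVU)
  have hgen : ∀ m ∈ M, IntermediateField.adjoin k ((fun a => red R r ((φ m).hom a)) '' b) = ⊤ := fun m hm => by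
    let F := IntermediateField.adjoin k ((fun a => red R r ((φ m).hom a)) '' b)
    let W := TensorProduct F Λ Λ
    let i₁ : Λ →ₐ[F] W := Algebra.TensorProduct.includeLeft
    let i₂ : Λ →ₐ[F] W := Algebra.TensorProduct.includeRight
    have hF : ∀ z ∈ F, i₁ z = i₂ z := fun z hz => (i₁.commutes ⟨z, hz⟩).trans (i₂.commutes ⟨z, hz⟩).symm
    let fW : R →+* W := i₁.toRingHom.comp fΛ
    have eW : i₂.toRingHom.comp fΛ = fW := RingHom.ext fun c => (hF _ (F.algebraMap_mem _)).symm
    have e₁ : (i₁.toRingHom.comp (red R r)).comp fO = fW := by rw [RingHom.comp_assoc, eΛ]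
    have e₂ : (i₂.toRingHom.comp (red R r)).comp fO = fW := by rw [RingHom.comp_assoc, eΛ, eW]
    have hbF : ∀ a, red R r ((φ m).hom a) ∈ F := fun a =>
      hb (F.toSubfield.toSubring.comap ((red R r).comp (φ m).hom)) (fun x => by
          show red R r (((φ m).hom.comp α) x) ∈ F
          rw [hbase m hm, RingHom.comp_apply, red_algebraMap]
          exact F.algebraMap_mem _)
        (fun x hx => IntermediateField.subset_adjoin k _ ⟨x, hx, rfl⟩) a
    have hagree : (i₁.toRingHom.comp (red R r)).comp (φ m).hom = (i₂.toRingHom.comp (red R r)).comp (φ m).hom :=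
      RingHom.ext fun a => hF _ (hbF a)
    have hmon : ∀ j, i₁ (mon k r j) = i₂ (mon k r j) := fun j => by
      have h := ((heq W _ _ e₁ e₂ m m hm hm).1 hagree)
      rw [MonObj.comp_mul, MonObj.comp_mul, MonObj.comp_pow, MonObj.comp_pow, ← Category.assoc, ← Category.assoc,
        push_res, push_res, push_ev, push_ev] at h
      have h' : i₁ (red R r (taut R r j)) = i₂ (red R r (taut R r j)) :=
        DFunLike.congr_fun (ev_injective q₀ g fW (mul_left_cancel h)) j
      rwa [red_taut] at h'
    have hall : i₁.toRingHom = i₂.toRingHom :=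
      ringHom_ext_funF (RingHom.ext fun c => hF _ (F.algebraMap_mem c)) hmon
    exact eq_top_iff.2 fun z _ => mem_of_tmul_eq F z (RingHom.congr_fun hall z)
  -- independent generators
  have htup : ∀ m ∈ M, ∃ t : Fin r → b, AlgebraicIndependent k fun i => red R r ((φ m).hom (t i).1) := fun m hm => by
    obtain ⟨a, ha, hai⟩ := exists_indep _ (hgen m hm)
    choose t ht hta using ha
    exact ⟨fun i => ⟨t i, ht i⟩, by simpa [hta] using hai⟩
  obtain ⟨t, hMt⟩ := exists_infinite_of_forall hM _ htup
  set M₂ : Set ℕ := {m ∈ M | AlgebraicIndependent k fun i => red R r ((φ m).hom (t i).1)}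
  obtain ⟨m₀, hm₀⟩ := hMt.nonempty
  have hind : ∀ m ∈ M₂, ∀ P : MvPolynomial (Fin r) R,
      MvPolynomial.eval₂ ((red R r).comp (algebraMap R O)) (fun i => red R r ((φ m).hom (t i).1)) P = 0 →
        ∀ d, P.coeff d ∈ maximalIdeal R := fun m hm P hP d => by
    rw [show (red R r).comp (algebraMap R O) = fΛ from eΛ] at hP
    have h0 : MvPolynomial.aeval (fun i => red R r ((φ m).hom (t i).1)) (P.map (residue R)) = 0 := by
      rw [MvPolynomial.aeval_def, MvPolynomial.eval₂_map]
      exact hP
    have := congrArg (MvPolynomial.coeff d) (hm.2.eq_zero_of_aeval_eq_zero _ h0)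
    rw [MvPolynomial.coeff_map, MvPolynomial.coeff_zero] at this
    exact Ideal.Quotient.eq_zero_iff_mem.1 this
  let a : Fin r → L := fun i => inc R K r ((φ m₀).hom (t i).1)
  have ha : AlgebraicIndependent K a := by
    rw [algebraicIndependent_iff]
    intro P hP
    by_contra hP0
    obtain ⟨w, Q, hQ, j, -, d, hd⟩ := exists_integral_scale R ({()} : Finset Unit) (fun _ => P)
      ⟨(), Finset.mem_singleton_self _, hP0⟩
    have h1 : inc R K r (MvPolynomial.aeval (fun i => (φ m₀).hom (t i).1) (Q j)) = 0 := by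
      rw [← AlgHom.comp_apply, MvPolynomial.comp_aeval]
      rw [← MvPolynomial.aeval_map_algebraMap K, hQ j (Finset.mem_singleton.2 rfl), map_mul,
        show MvPolynomial.aeval a P = 0 from hP, mul_zero]
    have h2 := congrArg (red R r) (inc_injective R K r (h1.trans (map_zero _).symm))
    rw [map_zero, MvPolynomial.aeval_def, MvPolynomial.eval₂_comp_left] at h2
    exact (Ideal.ne_top_iff_one _).1 (IsLocalRing.maximalIdeal.isMaximal R).ne_top (hd ▸ hind m₀ hm₀ (Q j) h2 d)
  refine false_of_shift (inc R K r) (red R r) (inc_injective R K r) (fun x hx => by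
      rw [red_algebraMap, (residue_eq_zero_iff x).2 hx, map_zero]) a ha (taut R r l)
    (by rw [red_taut]; exact mon_ne_zero l) c hc hc0 (isAlgebraic_of_indep a ha _) {d | m₀ + d ∈ M₂}
    ?_ (fun d => twist (χ ^ d)) (fun d i => (φ (m₀ + d)).hom (t i).1) ?_ ?_ (fun d hd => hind _ hd)
  · intro hfin
    refine hMt (((hfin.image (m₀ + ·)).union (Set.finite_Iio m₀)).subset fun m hm => ?_)
    rcases lt_or_ge m m₀ with h | h
    · exact Or.inr h
    · exact Or.inl ⟨m - m₀, by show m₀ + (m - m₀) ∈ M₂; rwa [Nat.add_sub_cancel' h], Nat.add_sub_cancel' h⟩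
  · intro d hd i
    have e' : ((twist (χ ^ d)).toRingHom.comp (inc R K r).toRingHom).comp fO = fL := by
      rw [RingHom.comp_assoc, eL]
      exact ((twist (χ ^ d)).restrictScalars R).comp_algebraMap
    have h : (inc R K r).toRingHom.comp (φ (m₀ + d)).hom =
        ((twist (χ ^ d)).toRingHom.comp (inc R K r).toRingHom).comp (φ m₀).hom := by
      refine (heq L _ _ eL e' (m₀ + d) m₀ hd.1 hm₀.1).2 ?_
      have hp : push q₀ ((twist (χ ^ d)).toRingHom.comp (inc R K r).toRingHom) e' =
          push q₀ (twist (χ ^ d)).toRingHom (f := fL) ((twist (χ ^ d)).restrictScalars R).comp_algebraMap ≫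
            push q₀ (inc R K r).toRingHom eL := Over.OverMorphism.ext (by
        show Spec.map _ = Spec.map _ ≫ Spec.map _
        rw [← Spec.map_comp]
        rfl)
      rw [hp, Category.assoc, hL, hL, push_ev]
      congr 1
      refine MonoidHom.ext fun j => ?_
      show χL j ^ (m₀ + d) * mon K r j = twist (χ ^ d) ((algebraMap K L (χ j)) ^ m₀ * mon K r j)
      rw [map_mul, map_pow, AlgHom.commutes, twist_mon, MonoidHom.pow_apply, map_pow]
      show algebraMap K L (χ j) ^ (m₀ + d) * _ = _
      rw [pow_add, _root_.mul_assoc]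
    exact (RingHom.congr_fun h (t i).1).symm
  · intro d _
    rw [inc_taut, twist_mon, MonoidHom.pow_apply, ← hχ, IsScalarTower.algebraMap_apply R K L, map_pow, map_pow,
      map_pow]

/-- The values of the character are units. -/
theorem exists_unit [QuasiCompact G.hom] [LocallyOfFiniteType G.hom] (g : Red.DS S (Fin r → ℤ) ⟶ G) [IsMonHom g]
    [Mono g] (q₀ : Spec (CommRingCat.of R) ⟶ S) (χ : Chars r →* K) (x : Over.mk q₀ ⟶ G)
    (hx : res q₀ (algebraMap R K) ≫ x = ev q₀ g (algebraMap R K) χ) (l : Chars r) :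
    ∃ u : Rˣ, algebraMap R K u = χ l := by
  have hinv : χ l⁻¹ = (χ l)⁻¹ := eq_inv_of_mul_eq_one_left (by rw [← map_mul, inv_mul_cancel, map_one])
  rcases ValuationRing.isInteger_or_isInteger R (χ l) with ⟨c, hc⟩ | ⟨c, hc⟩
  · refine ⟨(by_contra fun h => value_not_mem g q₀ χ x hx l c h hc : IsUnit c).unit, hc⟩
  · have hu : IsUnit c := by_contra fun h => value_not_mem g q₀ χ x hx l⁻¹ c h (hc.trans hinv.symm)
    refine ⟨hu.unit⁻¹, ?_⟩
    rw [map_units_inv, IsUnit.unit_spec, hc, inv_inv]

end Groth.Agent.MultClosed
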